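import Groth.Agent.TorsIsoLib.SepPoint
import Groth.Agent.S0536
import Groth.Agent.S0505
import Groth.Agent.EtShLib.Kummer
import Groth.Agent.HomRepLib.Descent
import Groth.Prelude.Def_RedSub

/-!
Torsors under smooth groups over henselian local rings are split by finite etale coverings.
-/

set_option autoImplicit false
set_option backward.isDefEq.respectTransparency false
set_option linter.style.haveILetI false
set_option synthInstance.maxHeartbeats 400000

noncomputable section

universe u

open CategoryTheory CategoryTheory.Limits MonoidalCategory CartesianMonoidalCategory AlgebraicGeometry Polynomial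

namespace Groth.Agent.TorsIso

/-- A finite separable extension of the residue field lifts to a finite etale henselian local algebra. -/
theorem exists_lift_extension (A : Type u) [CommRing A] [HenselianLocalRing A] (L : Type u) [Field L]
    [Algebra (IsLocalRing.ResidueField A) L] [FiniteDimensional (IsLocalRing.ResidueField A) L]
    [Algebra.IsSeparable (IsLocalRing.ResidueField A) L] :
    ∃ (A' : Type u) (_ : CommRing A') (_ : Algebra A A') (_ : HenselianLocalRing A') (ψ : A' →+* L),
      Module.Finite A A' ∧ Algebra.Etale A A' ∧ Module.FaithfullyFlat A A' ∧ Function.Surjective ψ ∧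
        RingHom.ker ψ = IsLocalRing.maximalIdeal A' ∧
        ψ.comp (algebraMap A A') = (algebraMap (IsLocalRing.ResidueField A) L).comp (IsLocalRing.residue A) := by
  let k := IsLocalRing.ResidueField A
  let r : A →+* k := IsLocalRing.residue A
  have hr : Function.Surjective r := IsLocalRing.residue_surjective
  obtain ⟨α, hα⟩ := Field.exists_primitive_element k L
  have hint : IsIntegral k α := IsIntegral.of_finite k α
  let p := minpoly k α
  obtain ⟨f, hfp, -, hfm⟩ := Polynomial.lifts_and_degree_eq_and_monic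
    (show p ∈ Polynomial.lifts r from (Polynomial.map_surjective r hr p)) (minpoly.monic hint)
  let A' := AdjoinRoot f
  have hroot : f.eval₂ ((algebraMap k L).comp r) α = 0 := by
    rw [← Polynomial.eval₂_map, hfp]
    exact minpoly.aeval k α
  let ψ : A' →+* L := AdjoinRoot.lift ((algebraMap k L).comp r) α hroot
  have hψ : ∀ g : A[X], ψ (AdjoinRoot.mk f g) = aeval α (g.map r) := fun g => by
    rw [AdjoinRoot.lift_mk, aeval_def, eval₂_map]
  have hψs : Function.Surjective ψ := fun y => by
    have hy : y ∈ (IntermediateField.adjoin k ({α} : Set L)).toSubalgebra := by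
      rw [hα]
      trivial
    rw [IntermediateField.adjoin_simple_toSubalgebra_of_isAlgebraic hint.isAlgebraic, Algebra.adjoin_singleton_eq_range_aeval] at hy
    obtain ⟨g, rfl⟩ := hy
    obtain ⟨g', rfl⟩ := Polynomial.map_surjective r hr g
    exact ⟨AdjoinRoot.mk f g', hψ g'⟩
  haveI hfin : Module.Finite A A' := hfm.finite_adjoinRoot
  haveI : Module.Free A A' := hfm.free_adjoinRoot
  haveI : Algebra.IsIntegral A A' := Algebra.IsIntegral.of_finite A A'
  haveI : Nontrivial A' := ψ.domain_nontrivial
  haveI hker : (RingHom.ker ψ).IsMaximal := RingHom.ker_isMaximal_of_surjective ψ hψs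
  haveI : IsLocalRing A' := IsLocalRing.of_unique_max_ideal ⟨RingHom.ker ψ, hker, fun M hM => by
    haveI := hM
    refine ((hker.eq_of_le hM.ne_top fun x hx => ?_)).symm
    have hle : (IsLocalRing.maximalIdeal A).map (algebraMap A A') ≤ M := by
      rw [Ideal.map_le_iff_le_comap]
      exact ((IsLocalRing.eq_maximalIdeal (Ideal.isMaximal_comap_of_isIntegral_of_isMaximal M))).ge
    obtain ⟨g, rfl⟩ := AdjoinRoot.mk_surjective (g := f) x
    rw [RingHom.mem_ker, hψ] at hx
    obtain ⟨q, hq⟩ := minpoly.dvd k α hx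
    obtain ⟨q', rfl⟩ := Polynomial.map_surjective r hr q
    have h0 : g - f * q' ∈ (IsLocalRing.maximalIdeal A).map (C : A →+* A[X]) := by
      rw [Ideal.mem_map_C_iff]
      intro n
      rw [← IsLocalRing.residue_eq_zero_iff, ← Polynomial.coeff_map, Polynomial.map_sub, Polynomial.map_mul, hfp, hq,
        sub_self, coeff_zero]
    have h1 := Ideal.mem_map_of_mem (AdjoinRoot.mk f) h0
    rw [Ideal.map_map, map_sub, map_mul, AdjoinRoot.mk_self, zero_mul, sub_zero] at h1
    exact hle h1⟩
  have hkm : RingHom.ker ψ = IsLocalRing.maximalIdeal A' := IsLocalRing.eq_maximalIdeal hker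
  have hsep : f.Separable := by
    have hu : IsUnit (AdjoinRoot.mk f f.derivative) := by
      rw [← IsLocalRing.notMem_maximalIdeal, ← hkm, RingHom.mem_ker, hψ, ← derivative_map, hfp]
      exact (Algebra.IsSeparable.isSeparable k α).aeval_derivative_ne_zero (minpoly.aeval k α)
    obtain ⟨c, hc⟩ := hu.exists_left_inv
    obtain ⟨c', rfl⟩ := AdjoinRoot.mk_surjective (g := f) c
    rw [← map_mul, ← (AdjoinRoot.mk f).map_one, AdjoinRoot.mk_eq_mk] at hc
    obtain ⟨d, hd⟩ := hc
    exact ⟨-d, c', by linear_combination hd⟩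
  haveI : HenselianLocalRing A' := Groth.Agent.S0505.result A A'
  haveI : Module.FaithfullyFlat A A' := inferInstance
  exact ⟨A', inferInstance, inferInstance, inferInstance, ψ, inferInstance,
    Groth.Agent.EtShLib.etale_adjoinRoot_separable hfm hsep, inferInstance, hψs, hkm,
    RingHom.ext fun a => AdjoinRoot.lift_of hroot⟩

/-- A torsor under a smooth group is smooth. -/
theorem smooth_of_isTorsor {S : Scheme.{u}} {G P : Over S} [GrpObj G] [Smooth G.hom] (a : AlgGrp.Action G P)
    (ha : RedSub.IsTorsor a) : Smooth P.hom := by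
  obtain ⟨hs, hf, hl, hi⟩ := ha
  haveI := hs
  haveI := hf
  haveI := hl
  haveI := hi
  haveI : IsIso (lift a.act (snd G P)).left := inferInstanceAs (IsIso ((Over.forget S).map (lift a.act (snd G P))))
  haveI : Smooth (snd G P).left := MorphismProperty.pullback_snd (P := @Smooth) G.hom P.hom ‹_›
  haveI : Smooth (snd P P).left := by
    rw [← MorphismProperty.cancel_left_of_respectsIso @Smooth (lift a.act (snd G P)).left, ← Over.comp_left, lift_snd]
    infer_instance
  haveI : DescLib.Fpqc P.hom := ⟨Scheme.fppfPrecoverage_le_fpqcPrecoverage S (by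
    rw [← Presieve.ofArrows_pUnit.{u}]
    exact (Scheme.ofArrows_mem_precoverage_iff _).mpr
      ⟨fun y => ⟨PUnit.unit, P.hom.surjective y⟩, fun _ => ⟨‹_›, ‹_›⟩⟩)⟩
  exact Groth.Agent.HomRep.prop_of_isPullback_fpqc @Smooth (IsPullback.of_hasPullback P.hom P.hom)
    (inferInstanceAs (Smooth (snd P P).left))

/-- A surjective smooth scheme over a henselian local ring has a point in a finite etale local algebra. -/
theorem exists_point_finite_etale (A : Type u) [CommRing A] [HenselianLocalRing A] {X : Scheme.{u}}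
    (pX : X ⟶ Spec (CommRingCat.of A)) [Smooth pX] [Surjective pX] :
    ∃ (A' : Type u) (_ : CommRing A') (_ : Algebra A A') (h : Spec (CommRingCat.of A') ⟶ X),
      Module.Finite A A' ∧ Algebra.Etale A A' ∧ Module.FaithfullyFlat A A' ∧
        h ≫ pX = Spec.map (CommRingCat.ofHom (algebraMap A A')) := by
  let k := IsLocalRing.ResidueField A
  let c : Spec (CommRingCat.of k) ⟶ Spec (CommRingCat.of A) := Spec.map (CommRingCat.ofHom (IsLocalRing.residue A))
  let X₀ := pullback pX c
  letI : X₀.Over (Spec (CommRingCat.of k)) := ⟨pullback.snd pX c⟩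
  haveI : Smooth (X₀ ↘ Spec (CommRingCat.of k)) := MorphismProperty.pullback_snd (P := @Smooth) pX c ‹_›
  haveI : Surjective (X₀ ↘ Spec (CommRingCat.of k)) := MorphismProperty.pullback_snd (P := @Surjective) pX c ‹_›
  obtain ⟨x₁, -⟩ := (X₀ ↘ Spec (CommRingCat.of k)).surjective (IsLocalRing.closedPoint k)
  obtain ⟨x, -, -, hfd, hsep⟩ := (SepPoint.dense_separable_points k X₀).inter_open_nonempty Set.univ isOpen_univ
    ⟨x₁, trivial⟩
  letI := Curv2.resAlgebra k X₀ x
  let L := X₀.residueField x
  haveI : FiniteDimensional k L := hfd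
  haveI : Algebra.IsSeparable k L := hsep
  obtain ⟨A', _, _, _, ψ, hfin, het, hff, hψs, hkm, hψc⟩ := exists_lift_extension A L
  have hres : Spec.map (CommRingCat.ofHom (Curv2.resMap k X₀ x)) =
      X₀.fromSpecResidueField x ≫ (X₀ ↘ Spec (CommRingCat.of k)) := by
    let p := X₀ ↘ Spec (CommRingCat.of k)
    have hc : CommRingCat.ofHom (Curv2.resMap k X₀ x) =
        (Scheme.ΓSpecIso (CommRingCat.of k)).inv ≫ p.appTop ≫ X₀.presheaf.germ ⊤ x trivial ≫ X₀.residue x := rfl
    rw [hc, Spec.map_comp, Spec.map_comp, Spec.map_comp]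
    show _ = (Spec.map (X₀.residue x) ≫ X₀.fromSpecStalk x) ≫ p
    simp only [Category.assoc]
    congr 1
    rw [← Scheme.fromSpecStalk_toSpecΓ_assoc, ← Scheme.toSpecΓ_naturality_assoc]
    simp [toSpecΓ_SpecMap_ΓSpecIso_inv]
  let σ : Spec (CommRingCat.of L) ⟶ X := X₀.fromSpecResidueField x ≫ pullback.fst pX c
  have hσ : σ ≫ pX = Spec.map (CommRingCat.ofHom ψ) ≫ Spec.map (CommRingCat.ofHom (algebraMap A A')) := by
    rw [← Spec.map_comp, ← CommRingCat.ofHom_comp, hψc, CommRingCat.ofHom_comp, Spec.map_comp, Category.assoc,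
      pullback.condition, ← Category.assoc]
    exact congrArg (· ≫ c) hres.symm
  obtain ⟨V, hV, hxV, -⟩ := exists_isAffineOpen_mem_and_subset (X := X) (x := σ (IsLocalRing.closedPoint L))
    (U := ⊤) trivial
  haveI : IsAffine (V : Scheme.{u}) := hV
  let pV : Spec Γ(X, V) ⟶ Spec (CommRingCat.of A) := hV.fromSpec ≫ pX
  letI : Algebra A Γ(X, V) := (Spec.preimage pV).hom.toAlgebra
  have hpV : Spec.map (CommRingCat.ofHom (algebraMap A Γ(X, V))) = pV := Spec.map_preimage pV
  haveI : Algebra.Smooth A Γ(X, V) := by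
    have h : Smooth pV := inferInstance
    rw [← hpV, HasRingHomProperty.Spec_iff (P := @Smooth), CommRingCat.hom_ofHom, RingHom.smooth_algebraMap] at h
    exact h
  have hr : Set.range σ ⊆ Set.range hV.fromSpec := by
    rintro _ ⟨y, rfl⟩
    rw [hV.range_fromSpec, show y = IsLocalRing.closedPoint L from Subsingleton.elim _ _]
    exact hxV
  let σ' := IsOpenImmersion.lift hV.fromSpec σ hr
  have hσ' : σ' ≫ hV.fromSpec = σ := IsOpenImmersion.lift_fac _ _ _
  let τ₀ : Γ(X, V) →+* L := (Spec.preimage σ').hom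
  have hτ₀ : τ₀.comp (algebraMap A Γ(X, V)) = ψ.comp (algebraMap A A') := by
    refine congrArg CommRingCat.Hom.hom (Spec.map_injective
      (a₁ := CommRingCat.ofHom (τ₀.comp (algebraMap A Γ(X, V)))) (a₂ := CommRingCat.ofHom (ψ.comp (algebraMap A A'))) ?_)
    rw [CommRingCat.ofHom_comp, CommRingCat.ofHom_comp, Spec.map_comp, Spec.map_comp, hpV, ← hσ]
    show Spec.map (Spec.preimage σ') ≫ hV.fromSpec ≫ pX = σ ≫ pX
    rw [Spec.map_preimage, reassoc_of% hσ']
  let e : (A' ⧸ IsLocalRing.maximalIdeal A') ≃+* L :=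
    (Ideal.quotEquivOfEq hkm.symm).trans (RingHom.quotientKerEquivOfSurjective hψs)
  let σa : Γ(X, V) →ₐ[A] A' ⧸ IsLocalRing.maximalIdeal A' :=
    { e.symm.toRingHom.comp τ₀ with
      commutes' := fun a => by
        show e.symm (τ₀ (algebraMap A Γ(X, V) a)) = _
        rw [show τ₀ (algebraMap A Γ(X, V) a) = ψ (algebraMap A A' a) from RingHom.congr_fun hτ₀ a,
          RingEquiv.symm_apply_eq]
        rfl }
  obtain ⟨τ, -⟩ := Groth.Agent.S0536.result A Γ(X, V) A' (IsLocalRing.maximalIdeal A') σa
  refine ⟨A', inferInstance, inferInstance, Spec.map (CommRingCat.ofHom τ.toRingHom) ≫ hV.fromSpec, hfin, het, hff, ?_⟩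
  rw [Category.assoc]
  show _ ≫ pV = _
  rw [← hpV, ← Spec.map_comp, ← CommRingCat.ofHom_comp, AlgHom.toRingHom_eq_coe, AlgHom.comp_algebraMap]

/-- A torsor under a smooth group over a henselian local ring is isotrivial. -/
theorem exists_finite_etale_section (A : Type u) [CommRing A] [HenselianLocalRing A]
    {G P : Over (Spec (CommRingCat.of A))} [GrpObj G] [Smooth G.hom] (a : AlgGrp.Action G P)
    (ha : RedSub.IsTorsor a) :
    ∃ (S' : Scheme.{u}) (f : S' ⟶ Spec (CommRingCat.of A)), IsFinite f ∧ Etale f ∧ Surjective f ∧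
      RedSub.HasSection (Red.bc f P) := by
  haveI := smooth_of_isTorsor a ha
  haveI := ha.1
  obtain ⟨A', _, _, h, hfin, het, hff, hh⟩ := exists_point_finite_etale A P.hom
  refine ⟨Spec (CommRingCat.of A'), Spec.map (CommRingCat.ofHom (algebraMap A A')), ?_, ?_, ?_,
    ⟨Over.homMk (pullback.lift h (𝟙 _) (by rw [hh, Category.id_comp])) (pullback.lift_snd _ _ _)⟩⟩
  · exact (IsFinite.SpecMap_iff _).2 (RingHom.finite_algebraMap.2 hfin)
  · rw [HasRingHomProperty.Spec_iff (P := @Etale), CommRingCat.hom_ofHom]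
    exact RingHom.etale_algebraMap.2 het
  · haveI := hff
    exact ⟨PrimeSpectrum.comap_surjective_of_faithfullyFlat⟩

end Groth.Agent.TorsIso
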